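/-
Shult's fusion theorem: the coset action, and split BN-pairs of rank one.
-/
import Cfsg.Agent.SH.A
import Cfsg.Agent.S0322

set_option autoImplicit false
set_option linter.style.haveILetI false

namespace Cfsg.Agent.SH

open Subgroup MulAction Cfsg.Agent.H20 Cfsg.Agent.H21 Cfsg.Agent.BS.Bd

variable {G : Type*} [Group G] [Finite G]

/-- The conjugates of `V`, indexed by the cosets of `B`. -/
noncomputable def Aq (B V : Subgroup G) (c : G ⧸ B) : Subgroup G := cj c.out V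

omit [Finite G] in
theorem Aq_mk {B V : Subgroup G} (hn : B ≤ N⟦V⟧) (g : G) : Aq B V (g : G ⧸ B) = cj g V := by
  obtain ⟨b, hb⟩ := QuotientGroup.mk_out_eq_mul B g
  rw [Aq, hb, cj_mul, cj_eq_of_mem_norm (hn b.2)]

omit [Finite G] in
theorem sh_coset {B V : Subgroup G} (hle : V ≤ B) (hn : B ≤ N⟦V⟧) (h0 : V ≠ ⊥) (h2 : ∀ x ∈ V, x * x = 1)
    (hf : ∀ x ∈ V, x ≠ 1 → ∀ g : G, g⁻¹ * x * g ∈ B → g ∈ B) : Sh (Aq B V) := by
  refine ⟨fun g a x hx => ?_, fun a x hx => ?_, fun a x hx => ?_, fun a x hx c hc ca => ?_, fun a => ?_⟩ <;>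
    obtain ⟨a, rfl⟩ := QuotientGroup.mk_surjective a
  · rw [Aq_mk hn] at hx
    rw [MulAction.Quotient.smul_mk, smul_eq_mul, Aq_mk hn, cj_mul]
    exact conj_mem_cj.2 hx
  · rw [Aq_mk hn] at hx
    obtain ⟨y, hy, rfl⟩ := mem_cj'.1 hx
    rw [conj_mul, h2 y hy, mul_one, mul_inv_cancel]
  · rw [Aq_mk hn] at hx
    exact fix_mk.2 (hle (mem_cj.1 hx))
  · obtain ⟨c, rfl⟩ := QuotientGroup.mk_surjective c
    rw [Aq_mk hn] at hx
    by_contra x1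
    refine ca (QuotientGroup.eq.2 (hf _ (mem_cj.1 hx) (fun e => x1 (by simpa [mul_assoc] using congrArg (a * · * a⁻¹) e)) (a⁻¹ * c) ?_)).symm
    convert fix_mk.1 hc using 1
    group
  · rw [Aq_mk hn]
    exact fun e => h0 (by rw [← cj_inv_cj a V, e, cj_bot])

omit [Finite G] in
theorem iSup_Aq [IsSimpleGroup G] {B V : Subgroup G} (h : Sh (Aq B V)) : ⨆ c, Aq B V c = ⊤ := by
  refine (IsSimpleGroup.eq_bot_or_eq_top_of_normal _ ⟨fun x hx g => ?_⟩).resolve_left fun e =>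
    h.ne (pt B) (eq_bot_iff.2 (e ▸ le_iSup _ (pt B)))
  have : ⨆ c, Aq B V c ≤ (⨆ c, Aq B V c).comap (MulAut.conj g).toMonoidHom :=
    iSup_le fun c y hy => le_iSup (Aq B V) _ (h.conj g c y hy)
  exact this hx

theorem se_of_two {B : Subgroup G} (h1 : B ≠ ⊤) (he : Even ♯B)
    (h : ∀ u : G, u * u = 1 → ∀ c d : G ⧸ B, c ≠ d → u • c = c → u • d = d → u = 1) : IsStronglyEmbedded B :=
  H11.isStronglyEmbedded_iff.2 ⟨h1, he, fun t ht ho g hg => by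
    by_contra hn
    exact (iv_of_ord ho).1 (h t (iv_of_ord ho).2 _ _ (mk_ne_pt.2 (mt inv_mem_iff.1 hn)) (fix_mk.2 (by simpa using hg))
      (fix_pt.2 ht))⟩

theorem exists_sh_BN [IsSimpleGroup G] (P : BNPair G) (hrank : P.rank = 1) {U : Subgroup G} (hUB : U ≤ P.B)
    (hUn : (U.subgroupOf P.B).Normal) (hUnil : Group.IsNilpotent U) (hsplit : U ⊔ (P.B ⊓ P.N) = P.B)
    (hind : Odd P.B.index) (hH : Odd ♯(P.B ⊓ P.N)) :
    P.B ≠ ⊤ ∧ Even ♯P.B ∧ ∃ V, Sh (Aq P.B V) := by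
  obtain ⟨⟨s, hs⟩, -⟩ := Nat.card_eq_one_iff_exists.1 hrank
  have h2 := @is_two_pretransitive_iff.1 (S0322.result P hrank)
  have hn : P.B ≤ N⟦U⟧ := (normal_subgroupOf_iff_le_normalizer hUB).1 hUn
  have sB : s ∉ P.B := fun e => P.conj_ne s hs (Set.ext fun x => ⟨by
    rintro ⟨y, hy, rfl⟩; exact mul_mem (mul_mem e hy) e, fun hx =>
      ⟨s⁻¹ * x * s⁻¹, mul_mem (mul_mem (inv_mem e) hx) (inv_mem e), by group⟩⟩)
  have h1 : P.B ≠ ⊤ := fun e => sB (e ▸ mem_top s)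
  have ne := mk_ne_pt.2 sB
  have he : Even ♯P.B := by
    obtain ⟨g, g1, g2⟩ := h2 ne ne.symm
    by_contra ho
    refine swap_not_odd ne g1 g2 (Odd.of_dvd_nat ?_ (orderOf_dvd_natCard g))
    rw [← P.B.index_mul_card]
    exact hind.mul (Nat.not_even_iff_odd.1 ho)
  have hU : ¬ Odd ♯U := fun ho => Nat.not_odd_iff_even.2 he
    (hsplit ▸ odd_sup ho hH (Or.inr (inf_le_left.trans hn)))
  refine ⟨h1, he, ⟨⟨⟨{x | x ∈ U ⊓ C⟦U⟧ ∧ x * x = 1}, fun {x y} hx hy => ⟨mul_mem hx.1 hy.1, ?_⟩⟩, one_mem _, mul_one 1⟩,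
    fun hx => ⟨inv_mem hx.1, by rw [← mul_inv_rev, hx.2, inv_one]⟩⟩, sh_coset (fun x hx => hUB hx.1.1)
    (fun g hg => mem_norm_of_forall fun x hx => ⟨mem_inf.2 ⟨conj_mem_of_norm (hn hg) hx.1.1,
      conj_mem_of_norm (norm_le_norm_cent _ (hn hg)) hx.1.2⟩, by rw [conj_mul, hx.2, mul_one, mul_inv_cancel]⟩)
    ?_ (fun _ hx => hx.2) fun x hx x1 g hg => ?_⟩
  · rw [mul_assoc, ← mul_assoc y, mem_cent.1 hx.1.2 y hy.1.1, mul_assoc, hy.2, mul_one, hx.2]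
  · obtain ⟨S, hS⟩ := exists_sylowOf (p := 2) U
    obtain ⟨⟨x, h3, h4⟩, h5⟩ := ne_bot_iff_exists_ne_one.1 (inf_cent_ne_bot_of_nil hUnil
      (Hall.normalIn_of_nilpotent hS hUnil) (Hall.sylow_ne_bot hS (Nat.not_odd_iff_even.1 hU).two_dvd))
    obtain ⟨y, h6, h7⟩ := (el2_of_mem (Hall.isPGroup hS) h3).exists_iv fun e => h5 (Subtype.ext e)
    exact fun e => h7.1 (mem_bot.1 (e.le ⟨zpowers_le.2 (mem_inf.2 ⟨Hall.le hS h3, h4⟩) h6, h7.2⟩))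
  · by_contra gB
    have key : ∀ c : G ⧸ P.B, c ≠ pt P.B → ∃ y ∈ U, y • (s : G ⧸ P.B) = c := fun c hc => by
      obtain ⟨b, b1, b2⟩ := h2 ne.symm hc.symm
      obtain ⟨y, hy, d, hd, rfl⟩ := (mem_sup_of_norm' (inf_le_left.trans hn)).1 (hsplit.ge (fix_pt.1 b1))
      refine ⟨y, hy, ?_⟩
      rw [← b2, mul_smul, (fix_mk (g := d)).2 (by simpa using P.conj_mem _ (inv_mem (P.subset hs)) d hd)]
    obtain ⟨y, hy, e⟩ := key g (mk_ne_pt.2 gB)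
    have e1 : x • (s : G ⧸ P.B) = s := smul_left_cancel y (by
      rw [← mul_smul, mem_cent.1 hx.1.2 y hy, mul_smul, e, fix_mk.2 hg])
    have e2 : x ∈ P.B.normalCore := Ker_pt (H := P.B) ▸ ⟨trivial, fun c _ => by
      by_cases hc : c = pt P.B
      · rw [hc]; exact fix_pt.2 (hUB hx.1.1)
      · obtain ⟨y, hy, rfl⟩ := key c hc
        rw [← mul_smul, ← mem_cent.1 hx.1.2 y hy, mul_smul, e1]⟩
    rcases IsSimpleGroup.eq_bot_or_eq_top_of_normal P.B.normalCore inferInstance with e3 | e3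
    · exact x1 (mem_bot.1 (e3 ▸ e2))
    · exact h1 (top_le_iff.1 (e3 ▸ P.B.normalCore_le))

end Cfsg.Agent.SH
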